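import Groth.Agent.AEC96.Diag
import Mathlib.AlgebraicGeometry.AlgClosed.Basic
import Groth.Agent.WC97.Fixed

/-!
Rational points on a connected union of finitely many smooth projective curves are algebraically
equivalent.
-/

set_option autoImplicit false
set_option backward.isDefEq.respectTransparency.types false

universe u

open CategoryTheory CategoryTheory.Limits AlgebraicGeometry TopologicalSpace

noncomputable section

namespace Groth.Agent.AEC96

variable {k : Type u} [Field k] {X C : Scheme.{u}} (p : X ⟶ Spec (CommRingCat.of k))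
  (q : C ⟶ Spec (CommRingCat.of k))

theorem isSeparated_of_isProjectiveOver (hp : Neron.IsProjectiveOver k (Over.mk q)) : IsSeparated q := by
  obtain ⟨n, i, hi, hiq⟩ := hp
  have := WC97.isProper_toBase n (Spec (CommRingCat.of k))
  rw [show q = i ≫ CohB1.ProjSpaceOver.toBase n _ from hiq.symm]
  infer_instance

theorem isClosedImmersion_graph (f : C ⟶ X) (hf : f ≫ p = q) [IsClosedImmersion f] [IsSeparated q] :
    IsClosedImmersion (pullback.lift f (𝟙 C) (hf.trans (Category.id_comp q).symm) : C ⟶ pullback p q) := by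
  have : IsClosedImmersion (pullback.map q q p q f (𝟙 C) (𝟙 _) (by rw [Category.comp_id, hf])
      (by rw [Category.comp_id, Category.id_comp])) :=
    MorphismProperty.pullback_map ‹IsClosedImmersion f› inferInstance (by rw [hf]) (by simp)
  have e : (pullback.lift f (𝟙 C) (hf.trans (Category.id_comp q).symm) : C ⟶ pullback p q) =
      pullback.diagonal q ≫ pullback.map q q p q f (𝟙 C) (𝟙 _) (by rw [Category.comp_id, hf])
        (by rw [Category.comp_id, Category.id_comp]) := by
    refine pullback.hom_ext ?_ ?_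
    · rw [Category.assoc]
      erw [pullback.lift_fst, pullback.lift_fst, pullback.diagonal_fst_assoc]
    · rw [Category.assoc]
      erw [pullback.lift_snd, pullback.lift_snd, pullback.diagonal_snd_assoc]
  rw [e]
  infer_instance

variable [IsAlgClosed k] [DecidableEq ↥X] {n : ℕ} (C' : Fin n → Scheme.{u})
  (q' : (i : Fin n) → (C' i ⟶ Spec (CommRingCat.of k))) (ι : (i : Fin n) → (C' i ⟶ X))

theorem isAlgEquiv_of_connected (hι : ∀ i, IsClosedImmersion (ι i)) (hq : ∀ i, ι i ≫ p = q' i)
    (hs : ∀ i, Smooth (q' i)) (hpr : ∀ i, Neron.IsProjectiveOver k (Over.mk (q' i)))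
    (hint : ∀ i, IsIntegral (C' i)) (hd : ∀ i, topologicalKrullDim ↥(C' i) = 1)
    (hconn : _root_.IsConnected (⋃ i, Set.range ⇑(ι i)))
    {a b : X} (ha : IsClosed ({a} : Set X)) (hb : IsClosed ({b} : Set X))
    (haC : a ∈ ⋃ i, Set.range ⇑(ι i)) (hbC : b ∈ ⋃ i, Set.range ⇑(ι i)) :
    AlgEqCyc.IsAlgEquiv p (Function.locallyFinsuppWithin.single a (1 : ℤ))
      (Function.locallyFinsuppWithin.single b (1 : ℤ)) := by
  classical
  let d : X → AlgebraicCycle X ℤ := fun x => Function.locallyFinsuppWithin.single x (1 : ℤ)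
  -- two closed points on one curve
  have key : ∀ i (x y : X), IsClosed ({x} : Set X) → IsClosed ({y} : Set X) →
      x ∈ Set.range (ι i) → y ∈ Set.range (ι i) → d x - d y ∈ AlgEqCyc.algTriv p := by
    intro i x y hx hy hxi hyi
    obtain ⟨x', rfl⟩ := hxi
    obtain ⟨y', rfl⟩ := hyi
    have := hint i; have := hι i; have := hs i
    have := isSeparated_of_isProjectiveOver (q' i) (hpr i)
    have := isClosedImmersion_graph p (q' i) (ι i) (hq i)
    have hcl : ∀ z : C' i, IsClosed ({ι i z} : Set X) → IsClosed ({z} : Set (C' i)) := fun z hz => by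
      have := hz.preimage (ι i).continuous
      rwa [show ι i ⁻¹' {ι i z} = {z} from Set.ext fun w => (ι i).isEmbedding.injective.eq_iff] at this
    have := isElemAlgTriv_of_curve p (q' i) (hs i) (hpr i) (hd i) (ι i) (hq i)
      (pointOfClosedPoint (q' i) x' (hcl _ hx)) (pointOfClosedPoint (q' i) y' (hcl _ hy))
      (pointOfClosedPoint_comp _ _ _) (pointOfClosedPoint_comp _ _ _)
    rw [pointOfClosedPoint_apply, pointOfClosedPoint_apply] at this
    exact AddSubgroup.subset_closure this
  -- linked indices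
  obtain ⟨i₀, hi₀⟩ := Set.mem_iUnion.1 haC
  let good : Set (Fin n) := {i | ∀ y ∈ Set.range (ι i), IsClosed ({y} : Set X) → d a - d y ∈ AlgEqCyc.algTriv p}
  have hg0 : i₀ ∈ good := fun y hy hyc => key i₀ a y ha hyc hi₀ hy
  have hstep : ∀ i ∈ good, ∀ j, (Set.range (ι i) ∩ Set.range (ι j)).Nonempty → j ∈ good := by
    intro i hi j hne y hy hyc
    have := hι i; have := hι j
    obtain ⟨z, hzi, hzj, hz⟩ : ∃ z, z ∈ Set.range (ι i) ∧ z ∈ Set.range (ι j) ∧ IsClosed ({z} : Set X) := by
      have := hs i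
      have : LocallyOfFiniteType (q' i) := inferInstance
      have : JacobsonSpace (C' i) := LocallyOfFiniteType.jacobsonSpace (q' i)
      have hne' : (ι i ⁻¹' Set.range (ι j)).Nonempty := by
        obtain ⟨z, ⟨w, rfl⟩, hz⟩ := hne
        exact ⟨w, hz⟩
      obtain ⟨w, hw, hwc⟩ := nonempty_inter_closedPoints hne'
        ((ι j).isClosedEmbedding.isClosed_range.preimage (ι i).continuous).isLocallyClosed
      exact ⟨ι i w, ⟨w, rfl⟩, hw, by
        simpa only [Set.image_singleton] using (ι i).isClosedEmbedding.isClosedMap _ hwc⟩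
    have h1 := hi z hzi hz
    have h2 := key j z y hz hyc hzj hy
    have h3 := add_mem h1 h2
    rwa [sub_add_sub_cancel] at h3
  have hall : ∀ j, j ∈ good := by
    by_contra h
    obtain ⟨j, hj⟩ := not_forall.1 h
    let A := ⋃ i ∈ good, Set.range (ι i)
    let B := ⋃ i ∈ goodᶜ, Set.range (ι i)
    have hA : IsClosed A := (Set.toFinite good).isClosed_biUnion fun i _ =>
      haveI := hι i; (ι i).isClosedEmbedding.isClosed_range
    have hB : IsClosed B := (Set.toFinite _).isClosed_biUnion fun i _ =>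
      haveI := hι i; (ι i).isClosedEmbedding.isClosed_range
    have hsub : (⋃ i, Set.range ⇑(ι i)) ⊆ A ∪ B := by
      intro x hx
      obtain ⟨i, hi⟩ := Set.mem_iUnion.1 hx
      by_cases hg : i ∈ good
      · exact Or.inl (Set.mem_biUnion hg hi)
      · exact Or.inr (Set.mem_biUnion (show i ∈ goodᶜ from hg) hi)
    have hjne : (Set.range (ι j)).Nonempty := by
      have := hint j
      exact ⟨_, Nonempty.some inferInstance, rfl⟩
    obtain ⟨x, -, hxA, hxB⟩ := isPreconnected_closed_iff.1 hconn.isPreconnected A B hA hB hsub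
      ⟨a, haC, Set.mem_biUnion hg0 hi₀⟩
      (hjne.mono fun x hx => ⟨Set.mem_iUnion.2 ⟨j, hx⟩, Set.mem_biUnion (show j ∈ goodᶜ from hj) hx⟩)
    obtain ⟨i, hi, hxi⟩ := Set.mem_iUnion₂.1 hxA
    obtain ⟨i', hi', hxi'⟩ := Set.mem_iUnion₂.1 hxB
    exact hi' (hstep i hi i' ⟨x, hxi, hxi'⟩)
  obtain ⟨j, hj⟩ := Set.mem_iUnion.1 hbC
  exact hall j b hj hb

end Groth.Agent.AEC96

end
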