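import Groth.Prelude.Def_AlgEqCyc
import Mathlib.AlgebraicGeometry.FunctionField
import Mathlib.AlgebraicGeometry.Morphisms.Proper
import Mathlib.RingTheory.SimpleModule.Basic

/-!
Two rational points in the image of a smooth projective curve are algebraically equivalent: the
family is the graph of the curve.
-/

set_option autoImplicit false
set_option backward.isDefEq.respectTransparency.types false

universe u

open CategoryTheory CategoryTheory.Limits AlgebraicGeometry TopologicalSpace

noncomputable section

namespace Groth.Agent.AEC96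

variable {P C : Scheme.{u}}

/-- The kernel of `O_{P,Γc} → κ(Γη)` is the kernel of `O_{P,Γc} → O_{C,c}`. -/
theorem ker_specMap_section [IsIntegral C] (Γ : C ⟶ P) (c : C)
    (h : Γ (genericPoint C) ⤳ Γ c) :
    RingHom.ker (Cyc.specMap (Γ c) (Γ (genericPoint C)) h) = RingHom.ker (Γ.stalkMap c).hom := by
  have hc : genericPoint C ⤳ c := genericPoint_specializes c
  have e : (P.presheaf.stalkSpecializes h ≫ P.residue (Γ (genericPoint C))) ≫
      Γ.residueFieldMap (genericPoint C) =
      Γ.stalkMap c ≫ C.presheaf.stalkSpecializes hc ≫ C.residue (genericPoint C) := by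
    rw [Category.assoc, Scheme.residue_residueFieldMap, ← Category.assoc]
    erw [Scheme.Hom.stalkSpecializes_stalkMap Γ (genericPoint C) c hc]
    rw [Category.assoc]
  have hinj : Function.Injective (C.presheaf.stalkSpecializes hc ≫ C.residue (genericPoint C)).hom := by
    intro a b hab
    change (C.residue (genericPoint C)).hom ((C.presheaf.stalkSpecializes hc).hom a) =
      (C.residue (genericPoint C)).hom ((C.presheaf.stalkSpecializes hc).hom b) at hab
    have h1 : (C.presheaf.stalkSpecializes hc).hom a = (C.presheaf.stalkSpecializes hc).hom b :=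
      (C.residue (genericPoint C)).hom.injective (R := C.functionField) hab
    exact IsFractionRing.injective (C.presheaf.stalk c) C.functionField h1
  ext a
  rw [RingHom.mem_ker, RingHom.mem_ker]
  have ea : (Γ.residueFieldMap (genericPoint C)).hom (Cyc.specMap (Γ c) (Γ (genericPoint C)) h a) =
      (C.presheaf.stalkSpecializes hc ≫ C.residue (genericPoint C)).hom ((Γ.stalkMap c).hom a) :=
    congrArg (fun φ => φ.hom a) e
  constructor
  · intro h0
    rw [h0, map_zero] at ea
    exact hinj (ea.symm.trans (map_zero _).symm)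
  · intro h0
    rw [h0, map_zero] at ea
    exact (Γ.residueFieldMap (genericPoint C)).hom.injective (ea.trans (map_zero _).symm)

/-- The closure of a section meets the fibre of each of its points with multiplicity one. -/
theorem fibreMult_section [IsIntegral C] (g : P ⟶ C) (Γ : C ⟶ P) (hΓ : Γ ≫ g = 𝟙 C) (c : C)
    (h : Γ (genericPoint C) ⤳ Γ c) :
    AlgEqCyc.fibreMult g (Γ c) (Γ (genericPoint C)) h = 1 := by
  unfold AlgEqCyc.fibreMult
  set O := P.presheaf.stalk (Γ c)
  set K := RingHom.ker (Cyc.specMap (Γ c) (Γ (genericPoint C)) h) with hK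
  set m := IsLocalRing.maximalIdeal (C.presheaf.stalk (g (Γ c))) with hm
  set J := m.map ((Ideal.Quotient.mk K).comp (g.stalkMap (Γ c)).hom) with hJ
  have hKm : K ≤ IsLocalRing.maximalIdeal O := IsLocalRing.le_maximalIdeal (RingHom.ker_ne_top _)
  haveI : IsIso (Γ ≫ g) := by rw [hΓ]; infer_instance
  have hbij : Function.Bijective (g.stalkMap (Γ c) ≫ Γ.stalkMap c).hom := by
    rw [← Scheme.Hom.stalkMap_comp]
    exact ConcreteCategory.bijective_of_isIso ((Γ ≫ g).stalkMap c)
  have hker : J.comap (Ideal.Quotient.mk K) = IsLocalRing.maximalIdeal O := by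
    rw [hJ, ← Ideal.map_map, Ideal.comap_map_of_surjective _ Ideal.Quotient.mk_surjective,
      ← RingHom.ker_eq_comap_bot, Ideal.mk_ker]
    refine le_antisymm (sup_le ?_ hKm) fun a ha => ?_
    · rw [Ideal.map_le_iff_le_comap]
      exact fun b hb => map_nonunit (g.stalkMap (Γ c)).hom b hb
    · obtain ⟨b, hb⟩ := hbij.2 ((Γ.stalkMap c).hom a)
      change (Γ.stalkMap c).hom ((g.stalkMap (Γ c)).hom b) = _ at hb
      have hbm : b ∈ m := by
        rw [hm, IsLocalRing.mem_maximalIdeal, mem_nonunits_iff]
        intro hu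
        exact map_nonunit (Γ.stalkMap c).hom a ha (hb ▸ (hu.map (g.stalkMap (Γ c)).hom).map (Γ.stalkMap c).hom)
      rw [← add_sub_cancel ((g.stalkMap (Γ c)).hom b) a]
      refine Submodule.add_mem_sup (Ideal.mem_map_of_mem _ hbm) ?_
      rw [hK, ker_specMap_section Γ c h, RingHom.mem_ker, map_sub, hb, sub_self]
  let φ : O →ₗ[O] (Cyc.LocQuot (Γ c) (Γ (genericPoint C)) h ⧸ J) := Algebra.linearMap O _
  have hsurj : Function.Surjective φ :=
    Ideal.Quotient.mk_surjective.comp Ideal.Quotient.mk_surjective
  have hφ : LinearMap.ker φ = IsLocalRing.maximalIdeal O := by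
    rw [← hker]
    ext a
    exact Ideal.Quotient.eq_zero_iff_mem
  have : IsSimpleModule O (O ⧸ IsLocalRing.maximalIdeal O) :=
    isSimpleModule_iff_isCoatom.2 (IsLocalRing.maximalIdeal.isMaximal O).out
  have : IsSimpleModule O (Cyc.LocQuot (Γ c) (Γ (genericPoint C)) h ⧸ J) :=
    IsSimpleModule.congr ((Submodule.quotEquivOfEq _ _ hφ.symm).trans
      (φ.quotKerEquivOfSurjective hsurj)).symm
  rw [Module.length_eq_one_iff.2 this]
  rfl

variable {k : Type u} [Field k] {X : Scheme.{u}} [DecidableEq ↥X] (p : X ⟶ Spec (CommRingCat.of k))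
  (q : C ⟶ Spec (CommRingCat.of k))

/-- Two rational points on the image of a smooth projective curve differ by an elementary algebraically
trivial cycle. -/
theorem isElemAlgTriv_of_curve [IsIntegral C] (hs : Smooth q) (hp : Neron.IsProjectiveOver k (Over.mk q))
    (hd : topologicalKrullDim C = 1) (f : C ⟶ X) (hf : f ≫ p = q)
    [IsClosedImmersion (pullback.lift f (𝟙 C) (hf.trans (Category.id_comp q).symm) : C ⟶ pullback p q)]
    (P₁ P₂ : Spec (CommRingCat.of k) ⟶ C) (h₁ : P₁ ≫ q = 𝟙 _) (h₂ : P₂ ≫ q = 𝟙 _) :
    AlgEqCyc.IsElemAlgTriv p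
      (Function.locallyFinsuppWithin.single (f (P₁ (IsLocalRing.closedPoint k))) (1 : ℤ) -
        Function.locallyFinsuppWithin.single (f (P₂ (IsLocalRing.closedPoint k))) (1 : ℤ)) := by
  classical
  set Γ : C ⟶ pullback p q := pullback.lift f (𝟙 C) (hf.trans (Category.id_comp q).symm) with hΓ
  have hsnd : Γ ≫ pullback.snd p q = 𝟙 C := pullback.lift_snd _ _ _
  set η := Γ (genericPoint C)
  let W : AlgebraicCycle (pullback p q) ℤ := Function.locallyFinsuppWithin.single η (1 : ℤ)
  have hW : ∀ w, W w = if w = η then 1 else 0 := fun w => by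
    change (Function.locallyFinsuppWithin.single η (1 : ℤ)) w = _
    rw [Function.locallyFinsuppWithin.single_apply]
  have key : ∀ (P : Spec (CommRingCat.of k) ⟶ C) (hP : P ≫ q = 𝟙 _) (x : X),
      AlgEqCyc.fibreFun p q W P hP x = if x = f (P (IsLocalRing.closedPoint k)) then 1 else 0 := by
    intro P hP x
    set o := IsLocalRing.closedPoint k
    have hsl : AlgEqCyc.slice p q P hP (f (P o)) = Γ (P o) := by
      have e1 : AlgEqCyc.slice p q P hP ≫ pullback.snd p q = p ≫ P := pullback.lift_snd _ _ _
      have e2 : AlgEqCyc.slice p q P hP ≫ pullback.fst p q = 𝟙 X := pullback.lift_fst _ _ _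
      have e3 : Γ ≫ pullback.fst p q = f := pullback.lift_fst _ _ _
      have : P ≫ f ≫ AlgEqCyc.slice p q P hP = P ≫ Γ := by
        apply pullback.hom_ext
        · rw [Category.assoc, Category.assoc, Category.assoc, e2, e3, Category.comp_id]
        · rw [Category.assoc, Category.assoc, Category.assoc, e1, hsnd, ← Category.assoc f, hf,
            ← Category.assoc P, hP, Category.id_comp, Category.comp_id]
      exact congrArg (fun φ => φ o) this
    have hclosure : ∀ z, η ⤳ z → ∃ c, Γ c = z := fun z hz =>
      hz.mem_closed Γ.isClosedEmbedding.isClosed_range ⟨_, rfl⟩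
    have hv : ∀ (hx : η ⤳ AlgEqCyc.slice p q P hP x), x = f (P o) := by
      intro hx
      obtain ⟨c, hc⟩ := hclosure _ hx
      have e1 : AlgEqCyc.slice p q P hP ≫ pullback.snd p q = p ≫ P := pullback.lift_snd _ _ _
      have e2 : AlgEqCyc.slice p q P hP ≫ pullback.fst p q = 𝟙 X := pullback.lift_fst _ _ _
      have e3 : Γ ≫ pullback.fst p q = f := pullback.lift_fst _ _ _
      have h1 : c = P (p x) := by
        have := congrArg (fun v => pullback.snd p q v) hc
        simp only [← Scheme.Hom.comp_apply, hsnd, e1] at this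
        exact this
      have h2 : f c = x := by
        have := congrArg (fun v => pullback.fst p q v) hc
        simp only [← Scheme.Hom.comp_apply, e2, e3] at this
        exact this
      rw [← h2, h1, Subsingleton.elim (p x) o]
    rw [AlgEqCyc.fibreFun]
    by_cases hx : x = f (P o)
    · subst hx
      rw [if_pos rfl]
      have hsp : η ⤳ AlgEqCyc.slice p q P hP (f (P o)) := by
        rw [hsl]; exact (genericPoint_specializes _).map Γ.continuous
      rw [finsum_eq_single _ ⟨η, by rw [hW, if_pos rfl]; exact one_ne_zero, hsp⟩]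
      · have hWη : W η = 1 := (hW η).trans (if_pos rfl)
        simp only [hWη, one_mul]
        have : ∀ (v : ↥(pullback p q)) (hv : η ⤳ v), v = Γ (P o) →
            AlgEqCyc.fibreMult (pullback.snd p q) v η hv = 1 := by
          rintro _ hv rfl
          exact fibreMult_section _ Γ hsnd _ hv
        rw [this _ _ hsl]
        rfl
      · rintro ⟨w, hw, hws⟩ hne
        exfalso
        rw [hW] at hw
        exact hne (Subtype.ext (by by_contra h; exact hw (if_neg h)))
    · rw [if_neg hx]
      refine finsum_eq_zero_of_forall_eq_zero fun ⟨w, hw, hsp⟩ => ?_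
      rw [hW] at hw
      obtain rfl : w = η := by by_contra h; exact hw (if_neg h)
      exact absurd (hv hsp) hx
  refine ⟨C, q, hs, hp, inferInstance, hd, W, fun w hw => ?_, P₁, P₂, h₁, h₂, fun x => ?_⟩
  · rw [hW] at hw
    obtain rfl : w = η := by by_contra h; exact hw (if_neg h)
    rw [← Scheme.Hom.comp_apply, hsnd]
    exact genericPoint_closure C
  · rw [key P₁ h₁, key P₂ h₂]
    simp only [Function.locallyFinsuppWithin.coe_sub, Pi.sub_apply,
      Function.locallyFinsuppWithin.single_apply]

end Groth.Agent.AEC96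

end
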